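import Mathlib.CategoryTheory.Functor.KanExtension.Basic
import Mathlib.CategoryTheory.Functor.Derived.LeftDerived
import Mathlib.CategoryTheory.Functor.Derived.RightDerived

/-!
# Kan extensions along a localization recognised on a class of resolutions
-/

set_option autoImplicit false
set_option linter.style.haveILetI false

universe v₁ v₂ v₃ u₁ u₂ u₃

open CategoryTheory

noncomputable section

namespace Groth.Agent.RDShiftLib

variable {C : Type u₁} [Category.{v₁} C] {D : Type u₂} [Category.{v₂} D] {H : Type u₃} [Category.{v₃} H]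
  {L : C ⥤ D} [L.EssSurj] {F : C ⥤ H} {E : D ⥤ H}

section Right

variable (α : L ⋙ E ⟶ F) (P : C → Prop) (hα : ∀ X, P X → IsIso (α.app X))
  (hres : ∀ X : C, ∃ (Y : C) (s : Y ⟶ X), P Y ∧ IsIso (L.map s))
  (hfac : ∀ {X Y : C} (f : L.obj X ⟶ L.obj Y), ∃ (X' : C) (s : X' ⟶ X) (g : X' ⟶ Y),
    IsIso (L.map s) ∧ L.map g = L.map s ≫ f)

include hα hres hfac in
/-- A right Kan extension is recognised on objects resolving everything from the left. -/
theorem isRightKanExtension_of_resolutions : E.IsRightKanExtension α := by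
  classical
  have hY : ∀ X : D, ∃ (Y : C), P Y ∧ Nonempty (L.obj Y ≅ X) := fun X => by
    obtain ⟨Y, s, hY, hs⟩ := hres (L.objPreimage X)
    exact ⟨Y, hY, ⟨asIso (L.map s) ≪≫ L.objObjPreimageIso X⟩⟩
  choose y hy he using hY
  let e : ∀ X, L.obj (y X) ≅ X := fun X => (he X).some
  let t : ∀ (G : CostructuredArrow ((Functor.whiskeringLeft C D H).obj L) F) (Y : C),
      P Y → (G.left.obj (L.obj Y) ⟶ E.obj (L.obj Y)) := fun G Y h =>
    haveI := hα Y h
    G.hom.app Y ≫ inv (α.app Y)
  have hnat : ∀ (G : CostructuredArrow ((Functor.whiskeringLeft C D H).obj L) F) (Y Y' : C) (h : P Y) (h' : P Y')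
      (a : Y ⟶ Y'), G.left.map (L.map a) ≫ t G Y' h' = t G Y h ≫ E.map (L.map a) := fun G Y Y' h h' a => by
    haveI := hα Y h
    haveI := hα Y' h'
    have h1 : G.left.map (L.map a) ≫ G.hom.app Y' = G.hom.app Y ≫ F.map a := G.hom.naturality a
    have h2 : E.map (L.map a) ≫ α.app Y' = α.app Y ≫ F.map a := α.naturality a
    show G.left.map (L.map a) ≫ G.hom.app Y' ≫ inv (α.app Y') = (G.hom.app Y ≫ inv (α.app Y)) ≫ E.map (L.map a)
    rw [← cancel_mono (α.app Y')]
    simp only [Category.assoc, IsIso.inv_hom_id, Category.comp_id, h1, h2, IsIso.inv_hom_id_assoc]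
  have key : ∀ (G : CostructuredArrow ((Functor.whiskeringLeft C D H).obj L) F) (Y Y' : C) (h : P Y) (h' : P Y')
      (φ : L.obj Y ⟶ L.obj Y'), G.left.map φ ≫ t G Y' h' = t G Y h ≫ E.map φ := fun G Y Y' h h' φ => by
    obtain ⟨X', s, g, hs, hg⟩ := hfac φ
    obtain ⟨Z, r, hZ, hr⟩ := hres X'
    have hb : L.map (r ≫ g) = L.map (r ≫ s) ≫ φ := by rw [L.map_comp, L.map_comp, hg, Category.assoc]
    haveI : IsIso (L.map (r ≫ s)) := by rw [L.map_comp]; infer_instance
    rw [← cancel_epi (G.left.map (L.map (r ≫ s))), ← Category.assoc, ← G.left.map_comp, ← hb,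
      hnat G Z Y' hZ h' (r ≫ g), ← Category.assoc (G.left.map (L.map (r ≫ s))), hnat G Z Y hZ h (r ≫ s),
      Category.assoc, hb, E.map_comp]
    simp only [t, Category.assoc]
  let τ : ∀ G : CostructuredArrow ((Functor.whiskeringLeft C D H).obj L) F, G.left ⟶ E := fun G =>
    { app := fun X => G.left.map (e X).inv ≫ t G (y X) (hy X) ≫ E.map (e X).hom
      naturality := fun X X' f => by
        have h := key G (y X) (y X') (hy X) (hy X') ((e X).hom ≫ f ≫ (e X').inv)
        have h0 : G.left.map f ≫ G.left.map (e X').inv =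
            G.left.map (e X).inv ≫ G.left.map ((e X).hom ≫ f ≫ (e X').inv) := by
          rw [← G.left.map_comp, ← G.left.map_comp, Iso.inv_hom_id_assoc]
        rw [← Category.assoc (G.left.map f), h0, Category.assoc, reassoc_of% h, ← E.map_comp]
        simp only [Category.assoc, Iso.inv_hom_id, Category.comp_id, E.map_comp] }
  refine ⟨⟨Limits.IsTerminal.ofUniqueHom (fun G => CostructuredArrow.homMk (τ G) ?_) fun G m => ?_⟩⟩
  · ext X
    show (τ G).app (L.obj X) ≫ α.app X = G.hom.app X
    obtain ⟨Y, s, hY, hs⟩ := hres X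
    haveI := hs
    haveI := hα Y hY
    have h := key G Y (y (L.obj X)) hY (hy _) (L.map s ≫ (e (L.obj X)).inv)
    rw [← cancel_epi (G.left.map (L.map s))]
    have h2 : E.map (L.map s) ≫ α.app X = α.app Y ≫ F.map s := α.naturality s
    show G.left.map (L.map s) ≫ (G.left.map (e _).inv ≫ t G _ (hy _) ≫ E.map (e _).hom) ≫ α.app X = _
    simp only [Category.assoc]
    rw [← G.left.map_comp_assoc, reassoc_of% h, ← E.map_comp_assoc]
    simp only [Category.assoc, Iso.inv_hom_id, Category.comp_id]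
    rw [h2]
    show (G.hom.app Y ≫ inv (α.app Y)) ≫ α.app Y ≫ F.map s = _
    rw [Category.assoc, IsIso.inv_hom_id_assoc]
    exact (G.hom.naturality s).symm
  · apply CostructuredArrow.hom_ext
    ext X
    show m.left.app X = G.left.map (e X).inv ≫ t G (y X) (hy X) ≫ E.map (e X).hom
    haveI := hα (y X) (hy X)
    have hw : m.left.app (L.obj (y X)) ≫ α.app (y X) = G.hom.app (y X) :=
      NatTrans.congr_app (CostructuredArrow.w m) (y X)
    have h3 : m.left.app (L.obj (y X)) = t G (y X) (hy X) := (IsIso.eq_comp_inv (α.app (y X))).2 hw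
    rw [← h3]
    refine Eq.trans ?_ (congrArg (G.left.map (e X).inv ≫ ·) (m.left.naturality (e X).hom))
    exact ((Category.assoc _ _ _).symm.trans ((congrArg (· ≫ m.left.app X) ((G.left.map_comp _ _).symm.trans
      ((congrArg G.left.map (e X).inv_hom_id).trans (G.left.map_id X)))).trans (Category.id_comp _))).symm

end Right

section Left

variable (α : F ⟶ L ⋙ E) (P : C → Prop) (hα : ∀ X, P X → IsIso (α.app X))
  (hres : ∀ X : C, ∃ (Y : C) (s : X ⟶ Y), P Y ∧ IsIso (L.map s))
  (hfac : ∀ {X Y : C} (f : L.obj X ⟶ L.obj Y), ∃ (Y' : C) (g : X ⟶ Y') (s : Y ⟶ Y'),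
    IsIso (L.map s) ∧ L.map g = f ≫ L.map s)

include hα hres hfac in
/-- A left Kan extension is recognised on objects resolving everything from the right. -/
theorem isLeftKanExtension_of_resolutions : E.IsLeftKanExtension α := by
  classical
  have hY : ∀ X : D, ∃ (Y : C), P Y ∧ Nonempty (L.obj Y ≅ X) := fun X => by
    obtain ⟨Y, s, hY, hs⟩ := hres (L.objPreimage X)
    exact ⟨Y, hY, ⟨(asIso (L.map s)).symm ≪≫ L.objObjPreimageIso X⟩⟩
  choose y hy he using hY
  let e : ∀ X, L.obj (y X) ≅ X := fun X => (he X).some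
  let t : ∀ (G : StructuredArrow F ((Functor.whiskeringLeft C D H).obj L)) (Y : C),
      P Y → (E.obj (L.obj Y) ⟶ G.right.obj (L.obj Y)) := fun G Y h =>
    haveI := hα Y h
    inv (α.app Y) ≫ G.hom.app Y
  have hnat : ∀ (G : StructuredArrow F ((Functor.whiskeringLeft C D H).obj L)) (Y Y' : C) (h : P Y) (h' : P Y')
      (a : Y ⟶ Y'), t G Y h ≫ G.right.map (L.map a) = E.map (L.map a) ≫ t G Y' h' := fun G Y Y' h h' a => by
    haveI := hα Y h
    haveI := hα Y' h'
    have h1 : G.hom.app Y ≫ G.right.map (L.map a) = F.map a ≫ G.hom.app Y' := (G.hom.naturality a).symm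
    have h2 : α.app Y ≫ E.map (L.map a) = F.map a ≫ α.app Y' := (α.naturality a).symm
    show (inv (α.app Y) ≫ G.hom.app Y) ≫ G.right.map (L.map a) = E.map (L.map a) ≫ inv (α.app Y') ≫ G.hom.app Y'
    rw [← cancel_epi (α.app Y)]
    simp only [Category.assoc, IsIso.hom_inv_id_assoc, h1]
    rw [← Category.assoc (α.app Y), h2, Category.assoc, IsIso.hom_inv_id_assoc]
  have key : ∀ (G : StructuredArrow F ((Functor.whiskeringLeft C D H).obj L)) (Y Y' : C) (h : P Y) (h' : P Y')
      (φ : L.obj Y ⟶ L.obj Y'), t G Y h ≫ G.right.map φ = E.map φ ≫ t G Y' h' := fun G Y Y' h h' φ => by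
    obtain ⟨X', g, s, hs, hg⟩ := hfac φ
    obtain ⟨Z, r, hZ, hr⟩ := hres X'
    have hb : L.map (g ≫ r) = φ ≫ L.map (s ≫ r) := by rw [L.map_comp, L.map_comp, hg, Category.assoc]
    haveI : IsIso (L.map (s ≫ r)) := by rw [L.map_comp]; infer_instance
    rw [← cancel_mono (G.right.map (L.map (s ≫ r))), Category.assoc, ← G.right.map_comp, ← hb,
      hnat G Y Z h hZ (g ≫ r), Category.assoc, hnat G Y' Z h' hZ (s ≫ r), hb, E.map_comp, Category.assoc]
  let τ : ∀ G : StructuredArrow F ((Functor.whiskeringLeft C D H).obj L), E ⟶ G.right := fun G =>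
    { app := fun X => E.map (e X).inv ≫ t G (y X) (hy X) ≫ G.right.map (e X).hom
      naturality := fun X X' f => by
        have h := key G (y X) (y X') (hy X) (hy X') ((e X).hom ≫ f ≫ (e X').inv)
        have h0 : G.right.map (e X).hom ≫ G.right.map f =
            G.right.map ((e X).hom ≫ f ≫ (e X').inv) ≫ G.right.map (e X').hom := by
          rw [← G.right.map_comp, ← G.right.map_comp]
          simp
        simp only [Category.assoc]
        rw [h0, reassoc_of% h, ← E.map_comp_assoc, ← E.map_comp_assoc]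
        simp }
  refine ⟨⟨Limits.IsInitial.ofUniqueHom (fun G => StructuredArrow.homMk (τ G) ?_) fun G m => ?_⟩⟩
  · ext X
    show α.app X ≫ (τ G).app (L.obj X) = G.hom.app X
    obtain ⟨Y, s, hY, hs⟩ := hres X
    haveI := hs
    haveI := hα Y hY
    have h := key G (y (L.obj X)) Y (hy _) hY ((e (L.obj X)).hom ≫ L.map s)
    rw [← cancel_mono (G.right.map (L.map s))]
    have h2 : α.app X ≫ E.map (L.map s) = F.map s ≫ α.app Y := (α.naturality s).symm
    show (α.app X ≫ E.map (e _).inv ≫ t G _ (hy _) ≫ G.right.map (e _).hom) ≫ G.right.map (L.map s) = _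
    simp only [Category.assoc]
    rw [← G.right.map_comp, h, ← E.map_comp_assoc, Iso.inv_hom_id_assoc, reassoc_of% h2]
    show F.map s ≫ α.app Y ≫ inv (α.app Y) ≫ G.hom.app Y = _
    rw [IsIso.hom_inv_id_assoc]
    exact G.hom.naturality s
  · apply StructuredArrow.hom_ext
    ext X
    haveI := hα (y X) (hy X)
    have hw : α.app (y X) ≫ m.right.app (L.obj (y X)) = G.hom.app (y X) :=
      NatTrans.congr_app (StructuredArrow.w m) (y X)
    show m.right.app X = E.map (e X).inv ≫ t G (y X) (hy X) ≫ G.right.map (e X).hom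
    have h3 : m.right.app (L.obj (y X)) = t G (y X) (hy X) := (IsIso.eq_inv_comp (α.app (y X))).2 hw
    rw [← h3]
    refine Eq.trans ?_ (congrArg (E.map (e X).inv ≫ ·) (m.right.naturality (e X).hom))
    exact ((Category.assoc _ _ _).symm.trans ((congrArg (· ≫ m.right.app X) ((E.map_comp _ _).symm.trans
      ((congrArg E.map (e X).inv_hom_id).trans (E.map_id X)))).trans (Category.id_comp _))).symm

end Left

end Groth.Agent.RDShiftLib
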