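import Mathlib
import Groth.Agent.RDerLib.Horseshoe

/-!
# Resolutions of unbounded complexes by objects with derived functors in one degree
-/

set_option autoImplicit false
set_option linter.style.haveILetI false
set_option backward.isDefEq.respectTransparency false

universe v v' u u'

open CategoryTheory CategoryTheory.Limits

noncomputable section

namespace Groth.Agent.RDShiftLib

variable {A : Type u} [Category.{v} A] [Abelian A] [EnoughInjectives A]
  {B : Type u'} [Category.{v'} B] [Abelian B] (F : A ⥤ B) [F.Additive]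

theorem isZero_rd_of_biprod {i : ℕ} {X X₁ X₂ : A} (i₁ : X₁ ⟶ X) (i₂ : X₂ ⟶ X) (p₁ : X ⟶ X₁)
    (p₂ : X ⟶ X₂) (h : p₁ ≫ i₁ + p₂ ≫ i₂ = 𝟙 X) (h₁ : IsZero ((F.rightDerived i).obj X₁))
    (h₂ : IsZero ((F.rightDerived i).obj X₂)) : IsZero ((F.rightDerived i).obj X) := by
  rw [IsZero.iff_id_eq_zero, ← (F.rightDerived i).map_id, ← h, Functor.map_add, Functor.map_comp,
    Functor.map_comp, h₁.eq_of_tgt ((F.rightDerived i).map p₁) 0, h₂.eq_of_tgt ((F.rightDerived i).map p₂) 0,
    zero_comp, zero_comp, add_zero]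

theorem isZero_rd_X₃ {S : ShortComplex A} (hS : S.ShortExact) (i : ℕ)
    (h₂ : IsZero ((F.rightDerived i).obj S.X₂)) (h₁ : IsZero ((F.rightDerived (i + 1)).obj S.X₁)) :
    IsZero ((F.rightDerived i).obj S.X₃) := by
  obtain ⟨Δ⟩ := RDerLib.nonempty_derivedLES F
  exact (Δ.exact₃ S hS i (i + 1) rfl).isZero_of_both_zeros (h₂.eq_of_src _ _) (h₁.eq_of_tgt _ _)

variable [PreservesFiniteLimits F]

theorem mono_rd_zero {X Y : A} (f : X ⟶ Y) [Mono f] : Mono ((F.rightDerived 0).map f) := by
  have h : (F.rightDerived 0).map f = F.rightDerivedZeroIsoSelf.hom.app X ≫ F.map f ≫ F.rightDerivedZeroIsoSelf.inv.app Y := by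
    rw [← Category.assoc, ← F.rightDerivedZeroIsoSelf.hom.naturality f, Category.assoc]
    simp
  rw [h]
  infer_instance

theorem isZero_rd_X₁ {S : ShortComplex A} (hS : S.ShortExact) (i : ℕ)
    (h₂ : IsZero ((F.rightDerived i).obj S.X₂))
    (h₃ : ∀ j, j + 1 = i → IsZero ((F.rightDerived j).obj S.X₃)) :
    IsZero ((F.rightDerived i).obj S.X₁) := by
  cases i with
  | zero =>
    haveI := hS.mono_f
    haveI := mono_rd_zero F S.f
    exact h₂.of_mono ((F.rightDerived 0).map S.f)
  | succ j =>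
    obtain ⟨Δ⟩ := RDerLib.nonempty_derivedLES F
    exact (Δ.exact₁ S hS j (j + 1) rfl).isZero_of_both_zeros ((h₃ j rfl).eq_of_src _ _) (h₂.eq_of_tgt _ _)

/-- Objects whose derived functors live in degree `n` only. -/
def Pure (n : ℕ) (X : A) : Prop := ∀ i : ℕ, i ≠ n → IsZero ((F.rightDerived i).obj X)

theorem pure_biprod {n : ℕ} {X X₁ X₂ : A} (i₁ : X₁ ⟶ X) (i₂ : X₂ ⟶ X) (p₁ : X ⟶ X₁)
    (p₂ : X ⟶ X₂) (h : p₁ ≫ i₁ + p₂ ≫ i₂ = 𝟙 X) (h₁ : Pure F n X₁) (h₂ : Pure F n X₂) : Pure F n X :=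
  fun i hi => isZero_rd_of_biprod F i₁ i₂ p₁ p₂ h (h₁ i hi) (h₂ i hi)

open CochainComplex CochainComplex.HomComplex in
theorem pure_mappingCone {n : ℕ} {K L : CochainComplex A ℤ} (f : K ⟶ L)
    (hK : ∀ p, Pure F n (K.X p)) (hL : ∀ p, Pure F n (L.X p)) (p : ℤ) : Pure F n ((mappingCone f).X p) :=
  pure_biprod F ((mappingCone.inl f).v (p + 1) p (by omega)) ((mappingCone.inr f).f p)
    ((mappingCone.fst f).1.v p (p + 1) rfl) ((mappingCone.snd f).v p p (add_zero p))
    (mappingCone.id_X f p (p + 1) rfl) (hK (p + 1)) (hL p)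

variable (n : ℕ) (hP : ∀ X : A, ∃ (Y : A) (p : Y ⟶ X), Epi p ∧ Pure F n Y)

open CochainComplex CochainComplex.HomComplex in
include hP in
/-- A termwise epimorphism from a complex with pure terms. -/
theorem exists_epi_pure (K : CochainComplex A ℤ) :
    ∃ (J : CochainComplex A ℤ) (π : J ⟶ K), Epi π ∧ ∀ p, Pure F n (J.X p) := by
  choose Y π hπ hY using hP
  let D : CochainComplex A ℤ := { X := fun p => Y (K.X (p + -1)), d := fun _ _ => 0 }
  let α : Cochain D K (-1) :=
    Cochain.mk fun p q hpq => π (K.X (p + -1)) ≫ (HomologicalComplex.XIsoOfEq K hpq).hom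
  let β : D ⟶ K := Cocycle.homOf (Cocycle.mk (δ (-1) 0 α) 1 (by omega) (δ_δ (-1) 0 1 α))
  have heq : δ (-1) 0 α = Cochain.ofHom (𝟙 D ≫ β) := by
    rw [Category.id_comp, Cocycle.cochain_ofHom_homOf_eq_coe]
    rfl
  refine ⟨mappingCone (𝟙 D), mappingCone.desc (𝟙 D) α β heq, ?_,
    pure_mappingCone F (𝟙 D) (fun p => hY _) (fun p => hY _)⟩
  haveI : ∀ q, Epi ((mappingCone.desc (𝟙 D) α β heq).f q) := fun q => by
    haveI : Epi (α.v (q + 1) q (by omega)) := by
      simp only [α, Cochain.mk_v]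
      haveI := hπ (K.X (q + 1 + -1))
      infer_instance
    exact epi_of_epi_fac (mappingCone.inl_v_desc_f (𝟙 D) α β heq (q + 1) q (add_neg_cancel_right q 1))
  exact HomologicalComplex.epi_of_epi_f _ inferInstance

open CochainComplex in
include hP in
/-- Resolution by complexes with pure terms. -/
theorem exists_pure_resolution (hdim : ∀ (X : A) (i : ℕ), n < i → IsZero ((F.rightDerived i).obj X)) :
    ∀ (k : ℕ) (K : CochainComplex A ℤ),
      (∀ (p : ℤ) (i : ℕ), i + k < n → IsZero ((F.rightDerived i).obj (K.X p))) →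
      ∃ (L : CochainComplex A ℤ) (s : L ⟶ K), QuasiIso s ∧ ∀ p, Pure F n (L.X p) := by
  intro k
  induction k with
  | zero =>
    intro K hK
    refine ⟨K, 𝟙 K, inferInstance, fun p i hi => ?_⟩
    rcases lt_or_gt_of_ne hi with h | h
    · exact hK p i (by omega)
    · exact hdim _ i h
  | succ k ih =>
    intro K hK
    obtain ⟨J, π, hπ, hJ⟩ := exists_epi_pure F n hP K
    let T : ShortComplex (CochainComplex A ℤ) := ShortComplex.mk (kernel.ι π) π (kernel.condition π)
    have hT : T.ShortExact := { exact := ShortComplex.exact_kernel π }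
    obtain ⟨L, g, hg, hL⟩ := ih T.X₁ fun p i hi => by
      refine isZero_rd_X₁ F (hT.map_of_exact (HomologicalComplex.eval A (ComplexShape.up ℤ) p)) i
        (hJ p i (by omega)) fun j hj => ?_
      exact hK p j (by omega)
    haveI := hg
    haveI := mappingCone.quasiIso_descShortComplex hT
    let c := mappingCone.map (g ≫ T.f) T.f g (𝟙 T.X₂) (by simp)
    haveI : QuasiIso c := by
      letI := HasDerivedCategory.standard A
      rw [← DerivedCategory.isIso_Q_map_iff_quasiIso]
      let φ : mappingCone.triangle (g ≫ T.f) ⟶ mappingCone.triangle T.f :=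
        mappingCone.triangleMap (g ≫ T.f) T.f g (𝟙 T.X₂) (by simp)
      haveI : IsIso (DerivedCategory.Q.map g) := by
        rw [DerivedCategory.isIso_Q_map_iff_quasiIso]
        infer_instance
      have h1 : DerivedCategory.Q.mapTriangle.obj (mappingCone.triangle (g ≫ T.f)) ∈
          Pretriangulated.distinguishedTriangles :=
        (DerivedCategory.mem_distTriang_iff _).2 ⟨_, _, _, ⟨Iso.refl _⟩⟩
      have h2 : DerivedCategory.Q.mapTriangle.obj (mappingCone.triangle T.f) ∈
          Pretriangulated.distinguishedTriangles :=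
        (DerivedCategory.mem_distTriang_iff _).2 ⟨_, _, _, ⟨Iso.refl _⟩⟩
      exact Pretriangulated.isIso₃_of_isIso₁₂ (DerivedCategory.Q.mapTriangle.map φ) h1 h2
        (inferInstanceAs (IsIso (DerivedCategory.Q.map g)))
        (inferInstanceAs (IsIso (DerivedCategory.Q.map (𝟙 T.X₂))))
    exact ⟨mappingCone (g ≫ T.f), c ≫ mappingCone.descShortComplex T, inferInstance,
      pure_mappingCone F _ hL hJ⟩

end Groth.Agent.RDShiftLib
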