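import Groth.Agent.RDShiftLib.Kan
import Groth.Agent.BoundedCdLib

/-!
# The total right derived functor on cochain complexes
-/

set_option autoImplicit false
set_option linter.style.haveILetI false
set_option backward.isDefEq.respectTransparency false

universe w w' v v' u u'

open CategoryTheory CategoryTheory.Limits

noncomputable section

namespace Groth.Agent.RDShiftLib

open Groth.Agent.SpSeqLib

variable {A : Type u} [Category.{v} A] [Abelian A] [EnoughInjectives A] [HasDerivedCategory.{w} A]
  {B : Type u'} [Category.{v'} B] [Abelian B] [HasDerivedCategory.{w'} B]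
  (F : A ⥤ B) [F.Additive] [PreservesFiniteLimits F]

theorem exists_rf {N : ℕ} (hN : ∀ X : A, IsZero ((F.rightDerived N).obj X)) :
    ∃ (R : DerivedCategory A ⥤ DerivedCategory B)
      (u : F.mapHomologicalComplex (ComplexShape.up ℤ) ⋙ DerivedCategory.Q ⟶ DerivedCategory.Q ⋙ R),
      R.IsRightDerivedFunctor u (HomologicalComplex.quasiIso A (ComplexShape.up ℤ)) ∧
        ∀ K : CochainComplex A ℤ, (∀ m, IsAcyclicFor F (K.X m)) → IsIso (u.app K) := by
  haveI := RightResLib.isRightDerivabilityStructure (BoundedCdLib.exists_resolution (S := F) hN)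
  have hder := BoundedCdLib.derives (S := F) hN
  haveI := hder.hasPointwiseRightDerivedFunctor
  let G := F.mapHomotopyCategory (ComplexShape.up ℤ) ⋙ DerivedCategory.Qh
  let W := HomotopyCategory.quasiIso A (ComplexShape.up ℤ)
  haveI : G.HasRightDerivedFunctor W := inferInstance
  let R := G.totalRightDerived DerivedCategory.Qh W
  let u₀ := G.totalRightDerivedUnit DerivedCategory.Qh W
  let q := HomotopyCategory.quotient A (ComplexShape.up ℤ)
  let u : F.mapHomologicalComplex (ComplexShape.up ℤ) ⋙ DerivedCategory.Q ⟶ DerivedCategory.Q ⋙ R :=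
    Functor.whiskerLeft (F.mapHomologicalComplex _) (DerivedCategory.quotientCompQhIso B).inv ≫
      Functor.whiskerRight (F.mapHomotopyCategoryFactors (ComplexShape.up ℤ)).inv DerivedCategory.Qh ≫
      Functor.whiskerLeft q u₀ ≫ Functor.whiskerRight (DerivedCategory.quotientCompQhIso A).hom R
  have hu : ∀ K : CochainComplex A ℤ, (∀ m, IsAcyclicFor F (K.X m)) → IsIso (u.app K) := fun K hK => by
    haveI : IsIso (u₀.app (q.obj K)) := hder.isIso_of_isRightDerivedFunctor u₀ ⟨q.obj K, hK⟩
    show IsIso ((DerivedCategory.quotientCompQhIso B).inv.app _ ≫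
      DerivedCategory.Qh.map ((F.mapHomotopyCategoryFactors (ComplexShape.up ℤ)).inv.app K) ≫
      u₀.app (q.obj K) ≫ R.map ((DerivedCategory.quotientCompQhIso A).hom.app K))
    infer_instance
  refine ⟨R, u, ?_, hu⟩
  rw [Functor.isRightDerivedFunctor_iff_isLeftKanExtension]
  haveI : (DerivedCategory.Q (C := A)).EssSurj :=
    Localization.essSurj _ (HomologicalComplex.quasiIso A (ComplexShape.up ℤ))
  refine isLeftKanExtension_of_resolutions u (fun K => ∀ m, IsAcyclicFor F (K.X m)) hu (fun K => ?_) fun f => ?_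
  · obtain ⟨L, s, hL, hs⟩ := BoundedCdLib.exists_acyclic_resolution (S := F) N K
      (fun m p hp => BoundedCdLib.isZero_rightDerived_of_le hN (p + 1) (by omega) _)
    obtain ⟨s, rfl⟩ := q.map_surjective s
    refine ⟨L, s, hL, ?_⟩
    rw [DerivedCategory.isIso_Q_map_iff_quasiIso, ← HomologicalComplex.mem_quasiIso_iff,
      ← HomotopyCategory.quotient_map_mem_quasiIso_iff]
    exact hs
  · obtain ⟨Y', g, s, hs, rfl⟩ := DerivedCategory.left_fac f
    exact ⟨Y', g, s, hs, by simp⟩

/-- The unit of any right derived functor is an isomorphism on complexes of acyclic objects. -/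
theorem isIso_unit_of_acyclic {N : ℕ} (hN : ∀ X : A, IsZero ((F.rightDerived N).obj X))
    (R' : DerivedCategory A ⥤ DerivedCategory B)
    (u' : F.mapHomologicalComplex (ComplexShape.up ℤ) ⋙ DerivedCategory.Q ⟶ DerivedCategory.Q ⋙ R')
    [R'.IsRightDerivedFunctor u' (HomologicalComplex.quasiIso A (ComplexShape.up ℤ))]
    (K : CochainComplex A ℤ) (hK : ∀ m, IsAcyclicFor F (K.X m)) : IsIso (u'.app K) := by
  obtain ⟨R, u, hR, hu⟩ := exists_rf F hN
  haveI := hR
  haveI := hu K hK
  haveI : IsIso (R.rightDerivedDesc u (HomologicalComplex.quasiIso A (ComplexShape.up ℤ)) R' u') :=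
    (Functor.isRightDerivedFunctor_iff_isIso_rightDerivedDesc R u
      (HomologicalComplex.quasiIso A (ComplexShape.up ℤ)) R' u').1 inferInstance
  rw [← Functor.rightDerived_fac_app R u (HomologicalComplex.quasiIso A (ComplexShape.up ℤ)) R' u' K]
  infer_instance

end Groth.Agent.RDShiftLib
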