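import Groth.Agent.RDShiftLib.PRes
import Groth.Agent.RDShiftLib.RF

/-!
# The comparison `RF ⟶ RⁿF[-n]` for unbounded complexes
-/

set_option autoImplicit false
set_option linter.style.haveILetI false
set_option linter.unusedSectionVars false
set_option backward.isDefEq.respectTransparency false

universe w w' v v' u u'

open CategoryTheory CategoryTheory.Limits Pretriangulated

noncomputable section

namespace Groth.Agent.RDShiftLib

open Groth.Agent.SpSeqLib

section General

variable {C : Type u} [Category.{v} C] [Abelian C]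

/-- A contractible complex of injectives is injective. -/
theorem injective_of_contractible (J : CochainComplex C ℤ) (hJ : ∀ p, Injective (J.X p))
    (h : Homotopy (𝟙 J) 0) : Injective J := by
  refine ⟨fun {X Y} g i _ => ?_⟩
  haveI : ∀ p, Mono (i.f p) := fun p => inferInstanceAs (Mono ((HomologicalComplex.eval C _ p).map i))
  haveI := hJ
  refine ⟨Homotopy.nullHomotopicMap fun p q => Injective.factorThru (g.f p) (i.f p) ≫ h.hom p q, ?_⟩
  have h1 : (fun p q => i.f p ≫ Injective.factorThru (g.f p) (i.f p) ≫ h.hom p q) = fun p q => g.f p ≫ h.hom p q :=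
    funext fun p => funext fun q => Injective.comp_factorThru_assoc (g.f p) (i.f p) (h.hom p q)
  rw [Homotopy.comp_nullHomotopicMap, h1, ← Homotopy.comp_nullHomotopicMap]
  refine Eq.trans (congrArg (g ≫ ·) ?_) (Category.comp_id g)
  ext p
  have h2 := h.comm p
  rw [HomologicalComplex.zero_f, add_zero] at h2
  exact h2.symm

variable [EnoughInjectives C]

/-- An embedding of a complex into a contractible injective complex. -/
structure Emb (K : CochainComplex C ℤ) where
  /-- the injective complex -/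
  J : CochainComplex C ℤ
  /-- the embedding -/
  ι : K ⟶ J
  mono : Mono ι
  inj : Injective J
  injX : ∀ p, Injective (J.X p)
  htpy : Homotopy (𝟙 J) 0

theorem nonempty_emb (K : CochainComplex C ℤ) : Nonempty (Emb K) := by
  obtain ⟨J, ι, hι, hJ, hz⟩ := BoundedCdLib.exists_mono_contractible K
  obtain ⟨h⟩ := (HomotopyCategory.isZero_quotient_obj_iff J).1 hz
  exact ⟨⟨J, ι, hι, injective_of_contractible J hJ h, hJ, h⟩⟩

/-- A chosen embedding. -/
def emb (K : CochainComplex C ℤ) : Emb K := (nonempty_emb K).some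

/-- The chosen short exact sequence. -/
def shc (K : CochainComplex C ℤ) : ShortComplex (CochainComplex C ℤ) :=
  ShortComplex.mk (emb K).ι (cokernel.π (emb K).ι) (cokernel.condition _)

theorem shc_shortExact (K : CochainComplex C ℤ) : (shc K).ShortExact :=
  haveI := (emb K).mono
  haveI : Mono (shc K).f := (emb K).mono
  haveI : Epi (shc K).g := inferInstanceAs (Epi (cokernel.π (emb K).ι))
  { exact := ShortComplex.exact_cokernel _ }

theorem exists_shc_map {K K' : CochainComplex C ℤ} (f : K ⟶ K') : ∃ φ : shc K ⟶ shc K', φ.τ₁ = f := by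
  haveI := (emb K).mono
  haveI := (emb K').inj
  let a := Injective.factorThru (f ≫ (emb K').ι) (emb K).ι
  have ha : (emb K).ι ≫ a = f ≫ (emb K').ι := Injective.comp_factorThru _ _
  refine ⟨ShortComplex.homMk f a (cokernel.desc _ (a ≫ cokernel.π (emb K').ι) ?_) ha.symm ?_, rfl⟩
  · rw [reassoc_of% ha, cokernel.condition, comp_zero]
  · exact (cokernel.π_desc _ _ _).symm

end General

section Q

variable {C : Type u} [Category.{v} C] [Abelian C] [HasDerivedCategory.{w} C]

theorem isZero_Q_of_homotopy {J : CochainComplex C ℤ} (h : Homotopy (𝟙 J) 0) :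
    IsZero (DerivedCategory.Q.obj J) :=
  (DerivedCategory.Qh.map_isZero ((HomotopyCategory.isZero_quotient_obj_iff J).2 ⟨h⟩)).of_iso
    ((DerivedCategory.quotientCompQhIso C).app J).symm

theorem isIso_Q_shift {K L : CochainComplex C ℤ} (f : K ⟶ L) [IsIso (DerivedCategory.Q.map f)] (k : ℤ) :
    IsIso (DerivedCategory.Q.map (f⟦k⟧')) :=
  (NatIso.isIso_map_iff ((DerivedCategory.Q (C := C)).commShiftIso k) f).2
    (inferInstanceAs (IsIso ((DerivedCategory.Q.map f)⟦k⟧')))

theorem isZero_Q_X₃ {S : ShortComplex (CochainComplex C ℤ)} (hS : S.ShortExact)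
    (h₁ : IsZero (DerivedCategory.Q.obj S.X₁)) (h₂ : IsZero (DerivedCategory.Q.obj S.X₂)) :
    IsZero (DerivedCategory.Q.obj S.X₃) :=
  Triangle.isZero₃_of_isZero₁₂ _ (DerivedCategory.triangleOfSES_distinguished hS) h₁ h₂

/-- A complex four-term exact sequence with two outer acyclic terms on the left. -/
theorem isIso_Q_map_of_exact {X₁ X₂ X₃ X₄ : CochainComplex C ℤ} (a : X₁ ⟶ X₂) (b : X₂ ⟶ X₃) (c : X₃ ⟶ X₄)
    [Mono a] [Epi c] (hab : a ≫ b = 0) (hbc : b ≫ c = 0) (e₁ : (ShortComplex.mk a b hab).Exact)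
    (e₂ : (ShortComplex.mk b c hbc).Exact) (h₁ : IsZero (DerivedCategory.Q.obj X₁))
    (h₂ : IsZero (DerivedCategory.Q.obj X₂)) : IsIso (DerivedCategory.Q.map c) := by
  let b' : X₂ ⟶ kernel c := kernel.lift c b hbc
  haveI : Epi b' := e₂.epi_kernelLift
  have hab' : a ≫ b' = 0 := by
    rw [← cancel_mono (kernel.ι c), Category.assoc, kernel.lift_ι, hab, zero_comp]
  let S₁ : ShortComplex (CochainComplex C ℤ) := ShortComplex.mk a b' hab'
  let φ : S₁ ⟶ ShortComplex.mk a b hab := { τ₁ := 𝟙 _, τ₂ := 𝟙 _, τ₃ := kernel.ι c }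
  haveI : Epi φ.τ₁ := inferInstanceAs (Epi (𝟙 _))
  haveI : IsIso φ.τ₂ := inferInstanceAs (IsIso (𝟙 _))
  haveI : Mono φ.τ₃ := inferInstanceAs (Mono (kernel.ι c))
  have hS₁ : S₁.ShortExact :=
    haveI : Mono S₁.f := ‹Mono a›
    haveI : Epi S₁.g := ‹Epi b'›
    { exact := (ShortComplex.exact_iff_of_epi_of_isIso_of_mono φ).2 e₁ }
  let S₂ : ShortComplex (CochainComplex C ℤ) := ShortComplex.mk (kernel.ι c) c (kernel.condition c)
  have hS₂ : S₂.ShortExact := { exact := ShortComplex.exact_kernel c }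
  exact (Triangle.isZero₁_iff_isIso₂ _ (DerivedCategory.triangleOfSES_distinguished hS₂)).1
    (isZero_Q_X₃ hS₁ h₁ h₂)

variable [EnoughInjectives C]

/-- The dimension shift isomorphism. -/
def sig (K : CochainComplex C ℤ) :
    DerivedCategory.Q.obj ((shc K).X₃⟦(-1 : ℤ)⟧) ⟶ DerivedCategory.Q.obj K :=
  (DerivedCategory.Q.commShiftIso (-1 : ℤ)).hom.app (shc K).X₃ ≫
    (DerivedCategory.triangleOfSESδ (shc_shortExact K))⟦(-1 : ℤ)⟧' ≫
    (shiftFunctorCompIsoId (DerivedCategory C) (1 : ℤ) (-1) (by omega)).hom.app _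

instance isIso_sig (K : CochainComplex C ℤ) : IsIso (sig K) := by
  haveI : IsIso (DerivedCategory.triangleOfSESδ (shc_shortExact K)) :=
    (Triangle.isZero₂_iff_isIso₃ _ (DerivedCategory.triangleOfSES_distinguished (shc_shortExact K))).1
      (isZero_Q_of_homotopy (emb K).htpy)
  haveI : IsIso ((DerivedCategory.triangleOfSESδ (shc_shortExact K))⟦(-1 : ℤ)⟧') := Functor.map_isIso _ _
  exact IsIso.comp_isIso' inferInstance (IsIso.comp_isIso' inferInstance inferInstance)

theorem sig_natural {K K' : CochainComplex C ℤ} (φ : shc K ⟶ shc K') :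
    DerivedCategory.Q.map (φ.τ₃⟦(-1 : ℤ)⟧') ≫ sig K' = sig K ≫ DerivedCategory.Q.map φ.τ₁ := by
  have h1 := (DerivedCategory.Q.commShiftIso (-1 : ℤ)).hom.naturality φ.τ₃
  have h2 := DerivedCategory.triangleOfSESδ_naturality (shc_shortExact K) (shc_shortExact K') φ
  have h3 := (shiftFunctorCompIsoId (DerivedCategory C) (1 : ℤ) (-1) (by omega)).hom.naturality
    (DerivedCategory.Q.map φ.τ₁)
  simp only [Functor.comp_map, Functor.id_map] at h1 h3
  simp only [sig, Category.assoc]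
  rw [reassoc_of% h1, ← Functor.map_comp_assoc, ← h2, Functor.map_comp_assoc, h3]

end Q

variable {A : Type u} [Category.{v} A] [Abelian A] [EnoughInjectives A] [HasDerivedCategory.{w} A]
  {B : Type u'} [Category.{v'} B] [Abelian B] [HasDerivedCategory.{w'} B]
  (F : A ⥤ B) [F.Additive] [PreservesFiniteLimits F]

/-- Termwise derived functor. -/
abbrev Rd (m : ℕ) : CochainComplex A ℤ ⥤ CochainComplex B ℤ :=
  (F.rightDerived m).mapHomologicalComplex (ComplexShape.up ℤ)

/-- Vanishing above `m`. -/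
def Vanish (m : ℕ) (K : CochainComplex A ℤ) : Prop :=
  ∀ (p : ℤ) (i : ℕ), m < i → IsZero ((F.rightDerived i).obj (K.X p))

/-- Vanishing below `m`, up to an acyclic complex in degree zero. -/
def Low (m : ℕ) (K : CochainComplex A ℤ) : Prop :=
  (∀ (p : ℤ) (i : ℕ), 1 ≤ i → i < m → IsZero ((F.rightDerived i).obj (K.X p))) ∧
    (1 ≤ m → IsZero (DerivedCategory.Q.obj ((Rd F 0).obj K)))

theorem isZero_rd_emb (K : CochainComplex A ℤ) (p : ℤ) (i : ℕ) (hi : 1 ≤ i) :
    IsZero ((F.rightDerived i).obj ((shc K).X₂.X p)) := by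
  obtain ⟨i, rfl⟩ : ∃ j, i = j + 1 := ⟨i - 1, by omega⟩
  haveI : Injective ((shc K).X₂.X p) := (emb K).injX p
  exact F.isZero_rightDerived_obj_injective_succ i _

theorem isZero_Q_rd_emb (K : CochainComplex A ℤ) : IsZero (DerivedCategory.Q.obj ((Rd F 0).obj (shc K).X₂)) :=
  isZero_Q_of_homotopy (((F.rightDerived 0).mapHomotopy (emb K).htpy).trans (Homotopy.ofEq (Functor.map_zero _ _ _))
    |> (Homotopy.ofEq ((Rd F 0).map_id _).symm).trans)

theorem shc_eval (K : CochainComplex A ℤ) (p : ℤ) :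
    ((shc K).map (HomologicalComplex.eval A (ComplexShape.up ℤ) p)).ShortExact :=
  (shc_shortExact K).map_of_exact _

theorem vanish_next {m : ℕ} {K : CochainComplex A ℤ} (h : Vanish F (m + 1) K) :
    Vanish F m ((shc K).X₃⟦(-1 : ℤ)⟧) := fun p i hi =>
  isZero_rd_X₃ F (shc_eval K (p + -1)) i (isZero_rd_emb F K _ i (by omega)) (h _ (i + 1) (by omega))

theorem low_next {m : ℕ} {K : CochainComplex A ℤ} (h : Low F (m + 1) K) :
    Low F m ((shc K).X₃⟦(-1 : ℤ)⟧) := by
  refine ⟨fun p i hi him => isZero_rd_X₃ F (shc_eval K (p + -1)) i (isZero_rd_emb F K _ i hi)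
    (h.1 _ (i + 1) (by omega) (by omega)), fun hm => ?_⟩
  obtain ⟨Δ⟩ := RDerLib.nonempty_derivedLES F
  have hS : ((shc K).map (Rd F 0)).ShortExact := by
    refine HomologicalComplex.shortExact_of_degreewise_shortExact _ fun p => ?_
    have hp := shc_eval K p
    haveI := hp.mono_f
    exact
      { exact := Δ.exact₂ _ hp 0
        mono_f := mono_rd_zero F ((shc K).map (HomologicalComplex.eval A (ComplexShape.up ℤ) p)).f
        epi_g := (Δ.exact₃ _ hp 0 1 rfl).epi_f ((h.1 p 1 le_rfl (by omega)).eq_of_tgt _ _) }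
  have hz := isZero_Q_X₃ hS (h.2 (by omega)) (isZero_Q_rd_emb F K)
  refine IsZero.of_iso ?_ (DerivedCategory.Q.mapIso (((Rd F 0).commShiftIso (-1 : ℤ)).app (shc K).X₃) ≪≫
    (DerivedCategory.Q.commShiftIso (-1 : ℤ)).app _)
  exact (shiftFunctor _ (-1 : ℤ)).map_isZero hz

variable (Δ : RDer.DerivedLES F)

/-- The connecting chain map. -/
def delCx (m : ℕ) (K : CochainComplex A ℤ) :
    (Rd F m).obj ((shc K).X₃⟦(-1 : ℤ)⟧) ⟶ ((Rd F (m + 1)).obj K)⟦(-1 : ℤ)⟧ where
  f p := Δ.δ _ (shc_eval K (p + -1)) m (m + 1) rfl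
  comm' i j _ := by
    let ψ : (shc K).map (HomologicalComplex.eval A (ComplexShape.up ℤ) (i + -1)) ⟶
        (shc K).map (HomologicalComplex.eval A (ComplexShape.up ℤ) (j + -1)) :=
      ShortComplex.homMk ((shc K).X₁.d _ _) ((shc K).X₂.d _ _) ((shc K).X₃.d _ _)
        ((shc K).f.comm _ _).symm ((shc K).g.comm _ _).symm
    have h := Δ.δ_natural (shc_eval K (i + -1)) (shc_eval K (j + -1)) ψ m (m + 1) rfl
    show Δ.δ _ (shc_eval K (i + -1)) m (m + 1) rfl ≫
        ((-1 : ℤ).negOnePow • (F.rightDerived (m + 1)).map ((shc K).X₁.d (i + -1) (j + -1))) =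
      (F.rightDerived m).map ((-1 : ℤ).negOnePow • (shc K).X₃.d (i + -1) (j + -1)) ≫
        Δ.δ _ (shc_eval K (j + -1)) m (m + 1) rfl
    rw [Functor.map_units_smul, Linear.comp_units_smul, Linear.units_smul_comp]
    exact congrArg ((-1 : ℤ).negOnePow • ·) h.symm

theorem delCx_natural (m : ℕ) {K K' : CochainComplex A ℤ} (φ : shc K ⟶ shc K') :
    (Rd F m).map (φ.τ₃⟦(-1 : ℤ)⟧') ≫ delCx F Δ m K' =
      delCx F Δ m K ≫ ((Rd F (m + 1)).map φ.τ₁)⟦(-1 : ℤ)⟧' := by
  ext p
  exact Δ.δ_natural (shc_eval K (p + -1)) (shc_eval K' (p + -1))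
    ((HomologicalComplex.eval A (ComplexShape.up ℤ) (p + -1)).mapShortComplex.map φ) m (m + 1) rfl

theorem isIso_delCx (m : ℕ) (K : CochainComplex A ℤ) (h : Low F (m + 1) K) :
    IsIso (DerivedCategory.Q.map (delCx F Δ m K)) := by
  cases m with
  | zero =>
    let a := (Rd F 0).map ((shc K).f⟦(-1 : ℤ)⟧')
    let b := (Rd F 0).map ((shc K).g⟦(-1 : ℤ)⟧')
    let c := delCx F Δ 0 K
    haveI : ∀ p, Mono (a.f p) := fun p =>
      haveI := (shc_eval K (p + -1)).mono_f
      mono_rd_zero F ((shc K).map (HomologicalComplex.eval A (ComplexShape.up ℤ) (p + -1))).f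
    haveI : Mono a := HomologicalComplex.mono_of_mono_f a inferInstance
    haveI : ∀ p, Epi (c.f p) := fun p =>
      (Δ.exact₁ _ (shc_eval K (p + -1)) 0 1 rfl).epi_f ((isZero_rd_emb F K _ 1 le_rfl).eq_of_tgt _ _)
    haveI : Epi c := HomologicalComplex.epi_of_epi_f c inferInstance
    have hab : a ≫ b = 0 := by
      rw [← Functor.map_comp, ← Functor.map_comp, (shc K).zero, Functor.map_zero, Functor.map_zero]
    have hbc : b ≫ c = 0 := by
      ext p
      exact Δ.comp_δ _ (shc_eval K (p + -1)) 0 1 rfl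
    refine isIso_Q_map_of_exact a b c hab hbc
      (HomologicalComplex.exact_of_degreewise_exact _ fun p => Δ.exact₂ _ (shc_eval K (p + -1)) 0)
      (HomologicalComplex.exact_of_degreewise_exact _ fun p => Δ.exact₃ _ (shc_eval K (p + -1)) 0 1 rfl) ?_ ?_
    · refine IsZero.of_iso ?_ (DerivedCategory.Q.mapIso (((Rd F 0).commShiftIso (-1 : ℤ)).app K) ≪≫
        (DerivedCategory.Q.commShiftIso (-1 : ℤ)).app _)
      exact (shiftFunctor _ (-1 : ℤ)).map_isZero (h.2 (by omega))
    · refine IsZero.of_iso ?_ (DerivedCategory.Q.mapIso (((Rd F 0).commShiftIso (-1 : ℤ)).app (shc K).X₂) ≪≫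
        (DerivedCategory.Q.commShiftIso (-1 : ℤ)).app _)
      exact (shiftFunctor _ (-1 : ℤ)).map_isZero (isZero_Q_rd_emb F K)
  | succ m =>
    haveI : ∀ p, IsIso ((delCx F Δ (m + 1) K).f p) := fun p => by
      have hp := shc_eval K (p + -1)
      haveI : Mono (Δ.δ _ hp (m + 1) (m + 1 + 1) rfl) :=
        (Δ.exact₃ _ hp (m + 1) (m + 1 + 1) rfl).mono_g ((isZero_rd_emb F K _ (m + 1) (by omega)).eq_of_src _ _)
      haveI : Epi (Δ.δ _ hp (m + 1) (m + 1 + 1) rfl) :=
        (Δ.exact₁ _ hp (m + 1) (m + 1 + 1) rfl).epi_f ((isZero_rd_emb F K _ (m + 1 + 1) (by omega)).eq_of_tgt _ _)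
      exact isIso_of_mono_of_epi (Δ.δ _ hp (m + 1) (m + 1 + 1) rfl)
    haveI : IsIso (delCx F Δ (m + 1) K) := HomologicalComplex.Hom.isIso_of_components _
    infer_instance

variable (R : DerivedCategory A ⥤ DerivedCategory B)

/-- The comparison at level `m`. -/
structure Lvl (m : ℕ) where
  /-- the components -/
  app (K : CochainComplex A ℤ) (h : Vanish F m K) :
    R.obj (DerivedCategory.Q.obj K) ⟶ DerivedCategory.Q.obj (((Rd F m).obj K)⟦-(m : ℤ)⟧)
  nat {K K' : CochainComplex A ℤ} (h : Vanish F m K) (h' : Vanish F m K') (f : K ⟶ K') :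
    R.map (DerivedCategory.Q.map f) ≫ app K' h' =
      app K h ≫ DerivedCategory.Q.map (((Rd F m).map f)⟦-(m : ℤ)⟧')
  iso (K : CochainComplex A ℤ) (h : Vanish F m K) : Low F m K → IsIso (app K h)

variable (u : F.mapHomologicalComplex (ComplexShape.up ℤ) ⋙ DerivedCategory.Q ⟶ DerivedCategory.Q ⋙ R)
  (hu : ∀ K : CochainComplex A ℤ, (∀ m, IsAcyclicFor F (K.X m)) → IsIso (u.app K))

include u hu in
theorem nonempty_lvl_zero : Nonempty (Lvl F R 0) := by
  have hK : ∀ (K : CochainComplex A ℤ), Vanish F 0 K → ∀ p, IsAcyclicFor F (K.X p) :=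
    fun K h p i => h p (i + 1) (by omega)
  let e : F.mapHomologicalComplex (ComplexShape.up ℤ) ≅ Rd F 0 ⋙ shiftFunctor (CochainComplex B ℤ) (-((0 : ℕ) : ℤ)) :=
    NatIso.mapHomologicalComplex F.rightDerivedZeroIsoSelf.symm (ComplexShape.up ℤ) ≪≫ (Rd F 0).rightUnitor.symm ≪≫
      Functor.isoWhiskerLeft (Rd F 0) (shiftFunctorZero' (CochainComplex B ℤ) (-((0 : ℕ) : ℤ)) (by simp)).symm
  refine ⟨{ app := fun K h => haveI := hu K (hK K h); inv (u.app K) ≫ DerivedCategory.Q.map (e.hom.app K)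
            nat := fun {K K'} h h' f => ?_
            iso := fun K h _ => ?_ }⟩
  · haveI := hu K (hK K h)
    haveI := hu K' (hK K' h')
    rw [← cancel_epi (u.app K)]
    have h1 : u.app K ≫ R.map (DerivedCategory.Q.map f) =
        DerivedCategory.Q.map ((F.mapHomologicalComplex _).map f) ≫ u.app K' := (u.naturality f).symm
    rw [reassoc_of% h1, IsIso.hom_inv_id_assoc, ← Functor.map_comp, e.hom.naturality f]
    simp
  · haveI := hu K (hK K h)
    show IsIso (inv (u.app K) ≫ DerivedCategory.Q.map (e.hom.app K))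
    infer_instance

include Δ in
theorem nonempty_lvl_succ (m : ℕ) (L : Lvl F R m) : Nonempty (Lvl F R (m + 1)) := by
  let a := shiftFunctorAdd' (CochainComplex B ℤ) (-1) (-(m : ℤ)) (-((m + 1 : ℕ) : ℤ)) (by push_cast; ring)
  let T : ∀ K, ((Rd F m).obj ((shc K).X₃⟦(-1 : ℤ)⟧))⟦-(m : ℤ)⟧ ⟶ ((Rd F (m + 1)).obj K)⟦-((m + 1 : ℕ) : ℤ)⟧ :=
    fun K => (delCx F Δ m K)⟦-(m : ℤ)⟧' ≫ a.inv.app _
  refine ⟨{ app := fun K h => R.map (inv (sig K)) ≫ L.app _ (vanish_next F h) ≫ DerivedCategory.Q.map (T K)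
            nat := fun {K K'} h h' f => ?_
            iso := fun K h hl => ?_ }⟩
  · obtain ⟨φ, rfl⟩ := exists_shc_map f
    have h1 : DerivedCategory.Q.map φ.τ₁ ≫ inv (sig K') = inv (sig K) ≫ DerivedCategory.Q.map (φ.τ₃⟦(-1 : ℤ)⟧') := by
      rw [IsIso.comp_inv_eq, Category.assoc, sig_natural φ, IsIso.inv_hom_id_assoc]
    have h2 := L.nat (vanish_next F h) (vanish_next F h') (φ.τ₃⟦(-1 : ℤ)⟧')
    have h3 : ((Rd F m).map (φ.τ₃⟦(-1 : ℤ)⟧'))⟦-(m : ℤ)⟧' ≫ T K' =
        T K ≫ ((Rd F (m + 1)).map φ.τ₁)⟦-((m + 1 : ℕ) : ℤ)⟧' := by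
      have h4 := a.inv.naturality ((Rd F (m + 1)).map φ.τ₁)
      simp only [T, Category.assoc]
      rw [← Functor.map_comp_assoc, delCx_natural, Functor.map_comp_assoc]
      exact congrArg ((delCx F Δ m K)⟦-(m : ℤ)⟧' ≫ ·) h4
    rw [← Functor.map_comp_assoc, h1, Functor.map_comp_assoc, reassoc_of% h2, ← Functor.map_comp, h3]
    simp
  · haveI := L.iso _ (vanish_next F h) (low_next F hl)
    haveI : IsIso (DerivedCategory.Q.map (T K)) := by
      haveI := isIso_delCx F Δ m K hl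
      haveI := isIso_Q_shift (delCx F Δ m K) (-(m : ℤ))
      simp only [T, Functor.map_comp]
      infer_instance
    infer_instance

include u hu in
theorem nonempty_lvl : ∀ m : ℕ, Nonempty (Lvl F R m) := by
  obtain ⟨Δ⟩ := RDerLib.nonempty_derivedLES F
  intro m
  induction m with
  | zero => exact nonempty_lvl_zero F R u hu
  | succ m ih => obtain ⟨L⟩ := ih; exact nonempty_lvl_succ F Δ R m L

variable (n : ℕ) (hdim : ∀ (X : A) (i : ℕ), n < i → IsZero ((F.rightDerived i).obj X))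
  (hP : ∀ X : A, ∃ (Y : A) (p : Y ⟶ X), Epi p ∧ Pure F n Y)

include u hu hdim hP in
/-- `RF[n]` is a left derived functor of `RⁿF`. -/
theorem exists_isLeftDerived : ∃ α : DerivedCategory.Q ⋙ (R ⋙ shiftFunctor (DerivedCategory B) (n : ℤ)) ⟶
      Rd F n ⋙ DerivedCategory.Q,
    (R ⋙ shiftFunctor (DerivedCategory B) (n : ℤ)).IsLeftDerivedFunctor α
      (HomologicalComplex.quasiIso A (ComplexShape.up ℤ)) := by
  obtain ⟨L⟩ := nonempty_lvl F R u hu n
  have hv : ∀ K, Vanish F n K := fun K p i hi => hdim _ i hi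
  let c := shiftFunctorCompIsoId (DerivedCategory B) (-(n : ℤ)) (n : ℤ) (by omega)
  let α : DerivedCategory.Q ⋙ (R ⋙ shiftFunctor (DerivedCategory B) (n : ℤ)) ⟶ Rd F n ⋙ DerivedCategory.Q :=
    { app := fun K => (L.app K (hv K) ≫ (DerivedCategory.Q.commShiftIso (-(n : ℤ))).hom.app ((Rd F n).obj K))⟦(n : ℤ)⟧' ≫
        c.hom.app _
      naturality := fun K K' f => by
        have h1 := L.nat (hv K) (hv K') f
        have h2 := (DerivedCategory.Q.commShiftIso (-(n : ℤ))).hom.naturality ((Rd F n).map f)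
        have h3 := c.hom.naturality (DerivedCategory.Q.map ((Rd F n).map f))
        simp only [Functor.comp_map, Functor.id_map] at h2 h3
        simp only [Functor.comp_map, Category.assoc]
        rw [← Functor.map_comp_assoc, reassoc_of% h1, h2, ← Category.assoc (L.app K (hv K)),
          Functor.map_comp_assoc, h3] }
  refine ⟨α, ⟨?_⟩⟩
  haveI : (DerivedCategory.Q (C := A)).EssSurj :=
    Localization.essSurj _ (HomologicalComplex.quasiIso A (ComplexShape.up ℤ))
  refine isRightKanExtension_of_resolutions α (fun K => ∀ p, Pure F n (K.X p)) (fun K hK => ?_) (fun K => ?_) fun f => ?_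
  · haveI : IsIso (L.app K (hv K)) := by
      refine L.iso K (hv K) ⟨fun p i _ hi => hK p i (by omega), fun hn => ?_⟩
      refine DerivedCategory.Q.map_isZero ?_
      refine (IsZero.iff_id_eq_zero _).2 ?_
      ext p
      exact (hK p 0 (by omega)).eq_of_src _ _
    show IsIso ((L.app K (hv K) ≫ (DerivedCategory.Q.commShiftIso (-(n : ℤ))).hom.app ((Rd F n).obj K))⟦(n : ℤ)⟧' ≫
      c.hom.app _)
    infer_instance
  · obtain ⟨P, s, hs, hP'⟩ := exists_pure_resolution F n hP hdim n K fun p i hi => by omega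
    exact ⟨P, s, hP', by rw [DerivedCategory.isIso_Q_map_iff_quasiIso]; exact hs⟩
  · obtain ⟨X', s, hs, g, rfl⟩ := DerivedCategory.right_fac f
    exact ⟨X', s, g, hs, by simp⟩

end Groth.Agent.RDShiftLib
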